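import Groth.Agent.Desc59.EtAssocSheaf

/-!
Sections of inverse images of quasi-coherent modules between affine schemes as tensor products.
-/

set_option autoImplicit false
set_option backward.isDefEq.respectTransparency false
set_option backward.isDefEq.respectTransparency.types false

noncomputable section

universe u

open CategoryTheory Limits AlgebraicGeometry TopologicalSpace Opposite TensorProduct
open Groth.Agent.QC70 Groth.Agent.QCPull72 Groth.Agent.LimTop61

namespace Groth.Agent.Unr55.QCohCech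

theorem appLE_top {Q P : Scheme.{u}} (g : Q ⟶ P) (e : (⊤ : Q.Opens) ≤ g ⁻¹ᵁ ⊤) :
    g.appLE ⊤ ⊤ e = g.appTop :=
  (Scheme.Hom.app_eq_appLE g (U := ⊤)).symm

/-- Sections of the inverse image between affine schemes. -/
theorem exists_tensorHom {Q P : Scheme.{u}} (g : Q ⟶ P) [IsAffine Q] [IsAffine P] (N : P.Modules)
    [N.IsQuasicoherent] :
    letI := g.appTop.hom.toAlgebra
    ∃ E : Γ(N, ⊤) ⊗[Γ(P, ⊤)] Γ(Q, ⊤) →+ Γ((Scheme.Modules.pullback g).obj N, ⊤), Function.Bijective E ∧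
      ∀ m t, E (m ⊗ₜ t) = t • unitSec g N (le_top : (⊤ : Q.Opens) ≤ g ⁻¹ᵁ ⊤) m := by
  have hh := exists_baseChange_equiv g N (isAffineOpen_top P) (isAffineOpen_top Q)
    (le_top : (⊤ : Q.Opens) ≤ g ⁻¹ᵁ ⊤)
  rw [appLE_top] at hh
  let _ := g.appTop.hom.toAlgebra
  obtain ⟨E, hE⟩ := hh
  refine ⟨E.symm.toAddEquiv.toAddMonoidHom.comp (TensorProduct.comm Γ(P, ⊤) Γ(N, ⊤) Γ(Q, ⊤)).toAddEquiv.toAddMonoidHom,
    E.symm.bijective.comp (TensorProduct.comm Γ(P, ⊤) Γ(N, ⊤) Γ(Q, ⊤)).bijective, fun m t => ?_⟩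
  refine E.injective ?_
  change E (E.symm (t ⊗ₜ m)) = _
  rw [LinearEquiv.apply_symm_apply, map_smul, hE, TensorProduct.smul_tmul', smul_eq_mul, mul_one]

end Groth.Agent.Unr55.QCohCech
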