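import Groth.Agent.Unr55.QCoh.AmitsurMod
import Groth.Agent.Unr55.QCoh.Sections
import Groth.Agent.Unr55.Et.GaZariski

/-!
Čech acyclicity of the etale sheaf associated to a quasi-coherent module on affine objects.
-/

set_option autoImplicit false
set_option backward.isDefEq.respectTransparency false
set_option backward.isDefEq.respectTransparency.types false

noncomputable section

universe u

open CategoryTheory CategoryTheory.Limits AlgebraicGeometry Opposite TensorProduct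
open Groth.Agent.QC70 Groth.Agent.QCPull72 Groth.Agent.LimTop61

namespace Groth.Agent.Unr55.QCohCech

open Desc59.EtAssocSheaf Unr55.EtaleAff

variable {X : Scheme.{u}} (F : X.Modules) [F.IsQuasicoherent]

/-- Restriction, with module-valued source and target. -/
def rg {U V : X.Etale} (g : V ⟶ U) : Γ(NU F U, ⊤) →+ Γ(NU F V, ⊤) :=
  Desc59.QSheaf.tr (Over.w g.hom) F (le_top : (⊤ : V.left.Opens) ≤ g.left ⁻¹ᵁ ⊤)

theorem rg_comp {U V W : X.Etale} (g : V ⟶ U) (g' : W ⟶ V) (m : Γ(NU F U, ⊤)) :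
    rg F g' (rg F g m) = rg F (g' ≫ g) m := rs_comp F g g' m

theorem rs_smul {U V : X.Etale} (g : V ⟶ U) (r : Γ(U.left, ⊤)) (m : Γ(NU F U, ⊤)) :
    rg F g (r • m) = g.left.appTop r • rg F g m := by
  have h := Desc59.QSheaf.tr_smul (Over.w g.hom) F (le_top : (⊤ : V.left.Opens) ≤ g.left ⁻¹ᵁ ⊤) r m
  rw [appLE_top] at h
  exact h

variable {U : X.Etale} (Y : Over U) [IsAffine U.left] (hY : Cov U Y)

/-- The map to sections on a product. -/
theorem exists_kappa (hA : IsAffine Y.left.left) (n : ℕ) :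
    ∃ κ : Γ(NU F U, ⊤) ⊗[Γ(U.left, ⊤)] GT Y n →+ Γ(NU F (pw Y n).left, ⊤), Function.Bijective κ ∧
      ∀ (m : Γ(NU F U, ⊤)) (t : GT Y n), κ (m ⊗ₜ t) = t • rg F (pw Y n).hom m := by
  have : IsAffine (pw Y n).left.left := isAffine_pw Y hA n
  have : (NU F U).IsQuasicoherent := QCPull72.isQuasicoherent_pullback _ _
  obtain ⟨E, hE, hEt⟩ := exists_tensorHom (pw Y n).hom.left (NU F U)
  let c := pullbackCompIso U.hom (pw Y n).hom.left (Over.w (pw Y n).hom.hom)
  refine ⟨((c.hom.app F).app ⊤).hom.comp E, ?_, fun m t => ?_⟩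
  · change Function.Bijective (((c.hom.app F).app ⊤) ∘ E)
    refine Function.Bijective.comp ⟨hom_injective F (pw Y n).hom.left (Over.w (pw Y n).hom.hom),
      fun y => ⟨lft F (pw Y n).hom.left (Over.w (pw Y n).hom.hom) y,
        hom_lft F (pw Y n).hom.left (Over.w (pw Y n).hom.hom) y⟩⟩ hE
  · refine (congrArg ((c.hom.app F).app ⊤) (hEt m t)).trans ?_
    exact Scheme.Modules.Hom.app_smul _ _ _

theorem addHom_ext {R M N : Type u} [CommRing R] [AddCommGroup M] [Module R M] [AddCommGroup N] [Module R N]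
    {P : Type u} [AddCommGroup P] (f g : M ⊗[R] N →+ P) (h : ∀ m n, f (m ⊗ₜ n) = g (m ⊗ₜ n)) (z : M ⊗[R] N) :
    f z = g z := by
  induction z using TensorProduct.induction_on with
  | zero => rw [map_zero, map_zero]
  | tmul m n => exact h m n
  | add x y hx hy => rw [map_add, map_add, hx, hy]

/-- Faces act through the cofaces. -/
theorem rs_face (n : ℕ) (i : Fin (n + 2))
    (κ : Γ(NU F U, ⊤) ⊗[Γ(U.left, ⊤)] GT Y n →+ Γ(NU F (pw Y n).left, ⊤))
    (hκ : ∀ (m : Γ(NU F U, ⊤)) (t : GT Y n), κ (m ⊗ₜ t) = t • rg F (pw Y n).hom m)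
    (κ' : Γ(NU F U, ⊤) ⊗[Γ(U.left, ⊤)] GT Y (n + 1) →+ Γ(NU F (pw Y (n + 1)).left, ⊤))
    (hκ' : ∀ (m : Γ(NU F U, ⊤)) (t : GT Y (n + 1)),
      κ' (m ⊗ₜ t) = t • rg F (pw Y (n + 1)).hom m)
    (z : Γ(NU F U, ⊤) ⊗[Γ(U.left, ⊤)] GT Y n) :
    rg F (Fib44.Cech.face (fam1 Y) (fun _ : Fin (n + 2) => PUnit.unit.{u + 2}) i.succAbove).left (κ z) =
      κ' ((cf Y n i).toLinearMap.lTensor _ z) := by
  let g := (Fib44.Cech.face (fam1 Y) (fun _ : Fin (n + 2) => PUnit.unit.{u + 2}) i.succAbove).left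
  refine addHom_ext ((rg F g).comp κ) (κ'.comp ((cf Y n i).toLinearMap.lTensor Γ(NU F U, ⊤)).toAddMonoidHom)
    (fun m t => ?_) z
  change rg F g (κ (m ⊗ₜ t)) = κ' (m ⊗ₜ cf Y n i t)
  rw [hκ, hκ', rs_smul, rg_comp]
  have e : g ≫ (pw Y n).hom = (pw Y (n + 1)).hom :=
    Over.w (Fib44.Cech.face (fam1 Y) (fun _ : Fin (n + 2) => PUnit.unit.{u + 2}) i.succAbove)
  rw [e]
  rfl

omit [IsAffine U.left] in
theorem D_comp (p : ℕ) :
    Desc59.AmitsurConerve.D Γ(U.left, ⊤) (GT Y) (cf Y) (p + 1) ∘ₗ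
      Desc59.AmitsurConerve.D Γ(U.left, ⊤) (GT Y) (cf Y) p = 0 := by
  let P : (Over U)ᵒᵖ ⥤ AddCommGrpCat.{u + 1} := (Over.forget U).op ⋙ (EtCoh.Ga X).obj
  let D := Desc59.AmitsurConerve.D Γ(U.left, ⊤) (GT Y) (cf Y)
  have hD : ∀ (p : ℕ) (d : (GT Y p)),
      (ULift.up (D p d) : ULift.{u + 1} (GT Y (p + 1))) =
        ∑ j : Fin (p + 2), (-1 : ℤ) ^ (j : ℕ) •
          (show ULift.{u + 1} (GT Y (p + 1)) from
            P.map (Fib44.Cech.face (fam1 Y) (fun _ : Fin (p + 2) => PUnit.unit.{u + 2}) j.succAbove).op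
              (ULift.up d : ULift.{u + 1} (GT Y p))) := fun p d => by
    simp only [D, Desc59.AmitsurConerve.D, LinearMap.sum_apply, LinearMap.smul_apply]
    refine (map_sum (AddEquiv.ulift.{u, u + 1} (α := GT Y (p + 1))).symm _ _).trans ?_
    refine Finset.sum_congr rfl fun j _ => ?_
    rw [map_zsmul]
    rfl
  refine LinearMap.ext fun d => ?_
  have h := CechFl.dd (fam1 Y) P p (fun _ => (ULift.up d : ULift.{u + 1} (GT Y p)))
    (fun _ => PUnit.unit.{u + 2})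
  refine congrArg ULift.down ((hD (p + 1) (D p d)).trans (Eq.trans ?_ h))
  refine Finset.sum_congr rfl fun j _ => ?_
  rw [hD p d]

include hY in
theorem isZero_cechH (G : EtCoh.Ab X) (hG : EtAssoc.IsAssoc F G) (q : ℕ) :
    IsZero (EtCech.cechH (fam1 Y) G.obj (q + 1)) := by
  have := faithfullyFlat Y hY
  obtain ⟨e, he⟩ := hG
  let P : (Over U)ᵒᵖ ⥤ AddCommGrpCat.{u + 1} := (Over.forget U).op ⋙ G.obj
  choose κ hκb hκ using exists_kappa F Y hY.1
  let Θ : ∀ p, Γ(NU F U, ⊤) ⊗[Γ(U.left, ⊤)] GT Y p →+ (P.obj (op (pw Y p)) : Type (u + 1)) := fun p =>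
    ((e (pw Y p).left).symm.toAddMonoidHom.comp AddEquiv.ulift.symm.toAddMonoidHom).comp (κ p)
  have hΘb : ∀ p, Function.Bijective (Θ p) := fun p =>
    (e (pw Y p).left).symm.bijective.comp (AddEquiv.ulift.symm.bijective.comp (hκb p))
  have hΘ : ∀ p (j : Fin (p + 2)) z,
      (show (P.obj (op (pw Y (p + 1))) : Type (u + 1)) from
        P.map (Fib44.Cech.face (fam1 Y) (fun _ : Fin (p + 2) => PUnit.unit.{u + 2}) j.succAbove).op (Θ p z)) =
      Θ (p + 1) ((cf Y p j).toLinearMap.lTensor _ z) := by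
    intro p j z
    refine (e (pw Y (p + 1)).left).injective (ULift.ext _ _ ?_)
    refine (he _ _ (Fib44.Cech.face (fam1 Y) (fun _ : Fin (p + 2) => PUnit.unit.{u + 2}) j.succAbove).left
      (Θ p z)).trans ?_
    change EtAssoc.resMap F _ (e (pw Y p).left ((e (pw Y p).left).symm (ULift.up (κ p z)))).down =
      (e (pw Y (p + 1)).left ((e (pw Y (p + 1)).left).symm (ULift.up (κ (p + 1) _)))).down
    rw [AddEquiv.apply_symm_apply, AddEquiv.apply_symm_apply, resMap_eq]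
    exact rs_face F Y p j (κ p) (hκ p) (κ (p + 1)) (hκ (p + 1)) z
  let D := Desc59.AmitsurConerve.D Γ(U.left, ⊤) (GT Y) (cf Y)
  have hD : ∀ p z, Θ (p + 1) ((D p).lTensor _ z) = ∑ j : Fin (p + 2), (-1 : ℤ) ^ (j : ℕ) •
      (show (P.obj (op (pw Y (p + 1))) : Type (u + 1)) from
        P.map (Fib44.Cech.face (fam1 Y) (fun _ : Fin (p + 2) => PUnit.unit.{u + 2}) j.succAbove).op (Θ p z)) := by
    intro p z
    have el : (D p).lTensor Γ(NU F U, ⊤) z =
        ∑ j : Fin (p + 2), (-1 : ℤ) ^ (j : ℕ) • (cf Y p j).toLinearMap.lTensor Γ(NU F U, ⊤) z := by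
      simp only [D, Desc59.AmitsurConerve.D, ← LinearMap.coe_lTensorHom, map_sum, map_zsmul, LinearMap.sum_apply,
        LinearMap.smul_apply]
    rw [el, map_sum]
    exact Finset.sum_congr rfl fun j _ => by rw [map_zsmul, hΘ]
  refine (Fib44.Cech.isZero_homology_succ_iff (fam1 Y) P q).2 fun c hc => ?_
  obtain ⟨c₀, hc₀⟩ := (hΘb (q + 1)).2 (c fun _ => PUnit.unit)
  have hex := exact_D_module Γ(U.left, ⊤) Γ(Y.left.left, ⊤) (GT Y) (slot Y) (cf Y)
    (cf_slot Y) (exists_lift Y hY.1) (hom_ext' Y hY.1) (D_comp Y) Γ(NU F U, ⊤) q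
  obtain ⟨w, hw⟩ := (hex c₀).1 ((hΘb (q + 2)).1 (by
    rw [map_zero]
    refine (hD (q + 1) c₀).trans ?_
    rw [hc₀]
    exact hc fun _ => PUnit.unit))
  refine ⟨fun _ => Θ q w, fun a => ?_⟩
  refine ((hD q w).symm.trans (congrArg (Θ (q + 1)) hw)).trans ?_
  exact hc₀

theorem good_assoc (G : EtCoh.Ab X) (hG : EtAssoc.IsAssoc F G) : GaZar.Good X G := by
  intro U hU Y hY q
  have : IsAffine U.left := hU
  exact isZero_cechH F Y hY G hG q

end Groth.Agent.Unr55.QCohCech
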