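import Groth.Agent.Unr55.Et.GaZariski
import Groth.Agent.RD97.LES
import Mathlib.CategoryTheory.Abelian.RightDerived

/-!
Vanishing of the right derived functors of the restriction to the Zariski site on Čech acyclic sheaves.
-/

set_option autoImplicit false
set_option backward.isDefEq.respectTransparency.types false
universe u

open CategoryTheory CategoryTheory.Limits AlgebraicGeometry Opposite

namespace Groth.Agent.Unr55.QCohCech

variable (X : Scheme.{u}) [EtZar.ZarCont X] [(EtZar.resZar X).Additive]

theorem isZero_rightDerived_of_good : ∀ (q : ℕ) (F : EtCoh.Ab X), GaZar.Good X F →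
    IsZero (((EtZar.resZar X).rightDerived (q + 1)).obj F)
  | q, F, hF => by
    let S : ShortComplex (EtCoh.Ab X) :=
      ShortComplex.mk (Injective.ι F) (cokernel.π (Injective.ι F)) (cokernel.condition _)
    have hS : S.ShortExact := { exact := ShortComplex.exact_cokernel _ }
    have hI : Injective S.X₂ := inferInstanceAs (Injective (Injective.under F))
    obtain ⟨Δ⟩ := RD97.nonempty_derivedLES (EtZar.resZar X)
    have h2 : IsZero (((EtZar.resZar X).rightDerived (q + 1)).obj S.X₂) :=
      (EtZar.resZar X).isZero_rightDerived_obj_injective_succ q S.X₂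
    have hQ : GaZar.Good X S.X₃ := @CechCartan.acyclic_cokernel.{u + 1, u, u + 1} _ _ _ _ _ _
      {U : X.Etale | IsAffine U.left} EtaleAff.Cov (GaZar.hprod X) (GaZar.href X) S hS hI hF
    refine (Δ.exact₁ S hS q (q + 1) rfl).isZero_X₂ ?_ (h2.eq_of_tgt _ _)
    change Δ.δ S hS q (q + 1) rfl = 0
    cases q with
    | zero =>
      have he : Epi ((EtZar.resZar X).map S.g) := (GaZar.shortExact_resZar X S hS hF).epi_g
      have : Epi (((EtZar.resZar X).rightDerived 0).map S.g) :=
        (NatIso.naturality_2 (EtZar.resZar X).rightDerivedZeroIsoSelf S.g) ▸ inferInstance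
      exact (cancel_epi (((EtZar.resZar X).rightDerived 0).map S.g)).1
        ((Δ.comp_δ S hS 0 (0 + 1) rfl).trans comp_zero.symm)
    | succ p => exact (isZero_rightDerived_of_good p S.X₃ hQ).eq_of_src _ _

end Groth.Agent.Unr55.QCohCech
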