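import Groth.Agent.Desc59.AmitsurConerve
import Mathlib.Algebra.TrivSqZeroExt.Basic

/-!
Exactness of the Amitsur complex with coefficients in a module, deduced from the case of rings by
applying it over the trivial square zero extension.
-/

set_option autoImplicit false
universe u

open TensorProduct

namespace Groth.Agent.Unr55.QCohCech

open Desc59.AmitsurConerve

variable (R A : Type u) [CommRing R] [CommRing A] [Algebra R A]
  (T : ℕ → Type u) [∀ n, CommRing (T n)] [∀ n, Algebra R (T n)]
  (ι : ∀ n, Fin (n + 1) → A →ₐ[R] T n) (δ : ∀ n, Fin (n + 2) → T n →ₐ[R] T (n + 1))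

theorem exact_D_module [Module.FaithfullyFlat R A]
    (hδ : ∀ n i j, (δ n i).comp (ι n j) = ι (n + 1) (i.succAbove j))
    (hlift : ∀ (n : ℕ) (B : Type u) [CommRing B] [Algebra R B] (f : Fin (n + 1) → A →ₐ[R] B),
      ∃ φ : T n →ₐ[R] B, ∀ j, φ.comp (ι n j) = f j)
    (hext : ∀ (n : ℕ) (B : Type u) [CommRing B] [Algebra R B] (φ ψ : T n →ₐ[R] B),
      (∀ j, φ.comp (ι n j) = ψ.comp (ι n j)) → φ = ψ)
    (hcomp : ∀ n, D R T δ (n + 1) ∘ₗ D R T δ n = 0)
    (M : Type u) [AddCommGroup M] [Module R M] (m : ℕ) :
    Function.Exact ((D R T δ m).lTensor M) ((D R T δ (m + 1)).lTensor M) := by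
  let : Module Rᵐᵒᵖ M := Module.compHom M (RingEquiv.toOpposite R).symm.toRingHom
  have : IsCentralScalar R M := ⟨fun _ _ => rfl⟩
  let R' := TrivSqZeroExt R M
  let T' : ℕ → Type u := fun n => R' ⊗[R] T n
  let δ' : ∀ n, Fin (n + 2) → T' n →ₐ[R'] T' (n + 1) := fun n i =>
    Algebra.TensorProduct.map (AlgHom.id R' R') (δ n i)
  let ι' : ∀ n, Fin (n + 1) → R' ⊗[R] A →ₐ[R'] T' n := fun n j =>
    Algebra.TensorProduct.map (AlgHom.id R' R') (ι n j)
  have : Module.FaithfullyFlat R' (R' ⊗[R] A) := inferInstance
  have hD : ∀ n (z : T' n), D R' T' δ' n z = (D R T δ n).lTensor R' z := by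
    intro n z
    induction z using TensorProduct.induction_on with
    | zero => simp
    | tmul r t =>
      simp only [D, LinearMap.lTensor_tmul, LinearMap.sum_apply, TensorProduct.tmul_sum]
      refine Finset.sum_congr rfl fun d _ => ?_
      simp only [LinearMap.smul_apply, TensorProduct.tmul_smul]
      rfl
    | add x y hx hy => rw [map_add, map_add, hx, hy]
  have hE : Function.Exact ((D R T δ m).lTensor R') ((D R T δ (m + 1)).lTensor R') := by
    have := exact_D R' (R' ⊗[R] A) T' ι' δ'
      (fun n i j => Algebra.TensorProduct.ext' fun r a => by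
        exact congrArg (r ⊗ₜ[R] ·) congr($(hδ n i j) a))
      (fun n B _ _ f => by
        let : Algebra R B := ((algebraMap R' B).comp (algebraMap R R')).toAlgebra
        have : IsScalarTower R R' B := IsScalarTower.of_algebraMap_eq fun _ => rfl
        obtain ⟨φ, hφ⟩ := hlift n B fun j =>
          ((f j).restrictScalars R).comp Algebra.TensorProduct.includeRight
        refine ⟨Algebra.TensorProduct.lift (Algebra.ofId R' B) φ fun _ _ => Commute.all _ _, fun j =>
          Algebra.TensorProduct.ext' fun r a => ?_⟩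
        have e := congr($(hφ j) a)
        simp only [AlgHom.comp_apply, AlgHom.restrictScalars_apply,
          Algebra.TensorProduct.includeRight_apply] at e
        change algebraMap R' B r * φ (ι n j a) = f j (r ⊗ₜ[R] a)
        rw [e, ← Algebra.smul_def, ← map_smul, TensorProduct.smul_tmul', smul_eq_mul, mul_one])
      (fun n B _ _ φ ψ h => by
        let : Algebra R B := ((algebraMap R' B).comp (algebraMap R R')).toAlgebra
        have : IsScalarTower R R' B := IsScalarTower.of_algebraMap_eq fun _ => rfl
        have e := hext n B ((φ.restrictScalars R).comp Algebra.TensorProduct.includeRight)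
          ((ψ.restrictScalars R).comp Algebra.TensorProduct.includeRight) fun j => AlgHom.ext fun a => by
            exact congr($(h j) (1 ⊗ₜ a))
        refine Algebra.TensorProduct.ext' fun r t => ?_
        have e' : φ (1 ⊗ₜ t) = ψ (1 ⊗ₜ t) := congr($e t)
        rw [show r ⊗ₜ[R] t = r • (1 : R') ⊗ₜ[R] t by rw [TensorProduct.smul_tmul', smul_eq_mul, mul_one],
          map_smul, map_smul, e'])
      (fun n => LinearMap.ext fun z => by
        simp only [LinearMap.comp_apply, hD, LinearMap.zero_apply]
        rw [← LinearMap.comp_apply, ← LinearMap.lTensor_comp, hcomp, LinearMap.lTensor_zero, LinearMap.zero_apply])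
      m
    intro z
    refine (Iff.of_eq (congrArg (· = 0) (hD _ z).symm)).trans ((this z).trans ?_)
    exact exists_congr fun w => by rw [hD]
  let i : M →ₗ[R] R' := TrivSqZeroExt.inrHom R M
  let p : R' →ₗ[R] M := TrivSqZeroExt.sndHom R M
  have hpi : ∀ (n : ℕ) (z : M ⊗[R] T n), p.rTensor (T n) (i.rTensor (T n) z) = z := fun n z => by
    rw [← LinearMap.comp_apply, ← LinearMap.rTensor_comp, show p ∘ₗ i = LinearMap.id from LinearMap.ext fun x => rfl,
      LinearMap.rTensor_id, LinearMap.id_apply]
  intro z
  constructor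
  · intro hz
    obtain ⟨w, hw⟩ := (hE (i.rTensor _ z)).1 (by
      rw [← LinearMap.comp_apply, LinearMap.lTensor_comp_rTensor, ← LinearMap.rTensor_comp_lTensor,
        LinearMap.comp_apply, hz, map_zero])
    refine ⟨p.rTensor _ w, ?_⟩
    rw [← LinearMap.comp_apply, LinearMap.lTensor_comp_rTensor, ← LinearMap.rTensor_comp_lTensor,
      LinearMap.comp_apply, hw, hpi]
  · rintro ⟨w, rfl⟩
    rw [← LinearMap.comp_apply, ← LinearMap.lTensor_comp, hcomp, LinearMap.lTensor_zero, LinearMap.zero_apply]

end Groth.Agent.Unr55.QCohCech
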